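import Groth.Agent.S2561
import Groth.Agent.S1324
import Groth.Agent.FlatMisc.DvrConn
import Groth.Agent.H23.LocNoethTop
import Groth.Agent.GeomField.Reduced
import Groth.Agent.Proj16.DVRPath
import Groth.Agent.QHomeo.OpenAt
import Groth.Prelude.Def_MoreMor
import Groth.Prelude.Def_EGA43
import Mathlib

/-!
# Generalizations of points of section components with geometrically reduced fibre
-/

universe u

set_option backward.isDefEq.respectTransparency false
set_option backward.isDefEq.respectTransparency.types false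
set_option maxHeartbeats 1000000

open AlgebraicGeometry CategoryTheory CategoryTheory.Limits TopologicalSpace IsLocalRing

noncomputable section

namespace Groth.Agent.H1Sect

variable {X Y : Scheme.{u}}

theorem isGeomReducedAt_of_isPullback {k k' : Type u} [Field k] [Field k'] [Algebra k k'] {F F' : Scheme.{u}}
    (t : F ⟶ Spec (CommRingCat.of k)) (t' : F' ⟶ Spec (CommRingCat.of k')) (Φ : F' ⟶ F)
    (sq : IsPullback Φ t' t (Spec.map (CommRingCat.ofHom (algebraMap k k')))) (w' : F')
    (hw : FBase.IsGeomReducedAt t (Φ w')) : FBase.IsGeomReducedAt t' w' := by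
  let e : F' ≅ FBase.bc t k' := sq.isoPullback
  have he : e.hom ≫ FBase.bcπ t k' = Φ := sq.isoPullback_hom_fst
  have he' : e.hom ≫ FBase.bcStr t k' = t' := sq.isoPullback_hom_snd
  have hbc : FBase.IsGeomReducedAt (FBase.bcStr t k') (e.hom w') := by
    refine (GeomField.isGeomReducedAt_bc_iff t k' _).1 ?_
    rw [← Scheme.Hom.comp_apply, he]
    exact hw
  intro K _ _ z hz
  let E : FBase.bc t' K ⟶ FBase.bc (FBase.bcStr t k') K :=
    pullback.map _ _ _ _ e.hom (𝟙 _) (𝟙 _) (by rw [Category.comp_id, he']) (by simp)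
  haveI : IsIso E := pullback.map_isIso _ _ _ _ _ _ _ _ _
  refine (GeomField.isReduced_stalk_iso (asIso E) z).2 (hbc K _ ?_)
  show (E ≫ pullback.fst _ _) z = _
  rw [pullback.lift_fst, Scheme.Hom.comp_apply]
  exact congrArg e.hom hz

/-- Geometric reducedness of a fibre at a point is stable under base change. -/
theorem isGeomReducedAt_fibre_baseChange (f : X ⟶ Y) {Y' : Scheme.{u}} (g : Y' ⟶ Y) (y' : Y')
    (w : ↥(f.fiber (g y'))) (w' : ↥((pullback.snd f g).fiber y'))
    (h : pullback.fst f g ((pullback.snd f g).fiberι y' w') = f.fiberι (g y') w)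
    (hw : FBase.IsGeomReducedAt (f.fiberToSpecResidueField (g y')) w) :
    FBase.IsGeomReducedAt ((pullback.snd f g).fiberToSpecResidueField y') w' := by
  letI : Algebra (Y.residueField (g y')) (Y'.residueField y') := (g.residueFieldMap y').hom.toAlgebra
  let Φ : (pullback.snd f g).fiber y' ⟶ f.fiber (g y') :=
    pullback.map _ _ _ _ (pullback.fst f g) (Spec.map (g.residueFieldMap y')) g pullback.condition.symm (by simp)
  have hsq : IsPullback Φ ((pullback.snd f g).fiberToSpecResidueField y') (f.fiberToSpecResidueField (g y'))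
      (Spec.map (g.residueFieldMap y')) :=
    isPullback_fiberToSpecResidueField_of_isPullback (IsPullback.of_hasPullback f g) y'
  have hΦw : Φ w' = w := by
    refine (f.fiberι (g y')).isEmbedding.injective ?_
    rw [← h, ← Scheme.Hom.comp_apply, ← Scheme.Hom.comp_apply]
    exact congrArg (fun m : _ ⟶ X => m w') (pullback.lift_fst _ _ _)
  exact isGeomReducedAt_of_isPullback (k := Y.residueField (g y')) (k' := Y'.residueField y') _ _ Φ hsq w'
    (hΦw.symm ▸ hw)

theorem isReduced_stalk_of_geomReducedAt {k : Type u} [Field k] {F : Scheme.{u}} (t : F ⟶ Spec (CommRingCat.of k))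
    (w : F) (h : FBase.IsGeomReducedAt t w) : _root_.IsReduced (F.presheaf.stalk w) := by
  haveI : IsIso (FBase.bcπ t k) := by
    haveI : IsIso (Spec.map (CommRingCat.ofHom (algebraMap k k))) := by
      rw [Algebra.algebraMap_self, CommRingCat.ofHom_id, Spec.map_id]; infer_instance
    exact inferInstanceAs (IsIso (pullback.fst t (Spec.map (CommRingCat.ofHom (algebraMap k k)))))
  obtain ⟨z, hz⟩ := (FBase.bcπ t k).surjective w
  have := (GeomField.isReduced_stalk_iso (asIso (FBase.bcπ t k)) z).1 (h k z hz)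
  rw [← hz]
  exact this

theorem mem_sectionComponents_iff_of_eq (f : X ⟶ Y) (g : Y ⟶ X) {x : X} {y : Y} (hy : f x = y) :
    x ∈ MoreMor.sectionComponents f g ↔ x ∈ connectedComponentIn (f ⁻¹' {y}) (g y) := by
  subst hy; rfl

theorem isPreconnected_subset_sectionComponents (f : X ⟶ Y) (g : Y ⟶ X) (hg : g ≫ f = 𝟙 Y) (y : Y) :
    connectedComponentIn (f ⁻¹' {y}) (g y) ⊆ MoreMor.sectionComponents f g := fun x hx => by
  have : x ∈ f ⁻¹' {y} := connectedComponentIn_subset _ _ hx
  exact (mem_sectionComponents_iff_of_eq f g this).2 hx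

/-- Generalizations stay in the section components. -/
theorem mem_sectionComponents_of_specializes [IsLocallyNoetherian Y] (f : X ⟶ Y) [LocallyOfFiniteType f] (g : Y ⟶ X)
    (hg : g ≫ f = 𝟙 Y) (y : Y)
    (H : ∀ z ∈ connectedComponentIn (f ⁻¹' {y}) (g y), EGA43.IsUnivOpenAt f z ∧
      FBase.IsGeomReducedAt (f.fiberToSpecResidueField (f z)) (f.asFiber z))
    {x x' : X} (hx : x ∈ connectedComponentIn (f ⁻¹' {y}) (g y)) (hsp : x' ⤳ x) :
    x' ∈ MoreMor.sectionComponents f g := by
  rcases eq_or_ne x x' with rfl | hne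
  · exact isPreconnected_subset_sectionComponents f g hg y hx
  haveI : IsLocallyNoetherian X := LocallyOfFiniteType.isLocallyNoetherian f
  obtain ⟨A, h, hA, hhc, hhg⟩ := Proj16.exists_dvr_path (p := 𝟙 X) (x := x') (y' := x) hsp hne
  let S := Spec (CommRingCat.of A)
  haveI : IsLocallyNoetherian S := inferInstance
  let G : S ⟶ Y := h ≫ f
  let X' := pullback f G
  let f' : X' ⟶ S := pullback.snd f G
  let p : X' ⟶ X := pullback.fst f G
  have hfy : f x = y := connectedComponentIn_subset (f ⁻¹' {y}) (g y) hx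
  let pt : S := closedPoint A
  have hGpt : G pt = y := by rw [Scheme.Hom.comp_apply, hhc, hfy]
  let σ : S ⟶ X' := pullback.lift h (𝟙 _) (by rw [Category.id_comp])
  let s' : S ⟶ X' := pullback.lift (G ≫ g) (𝟙 _) (by rw [Category.assoc, hg, Category.comp_id, Category.id_comp])
  have hσ : ∀ q, f' (σ q) = q := fun q => by
    rw [← Scheme.Hom.comp_apply, pullback.lift_snd]; rfl
  have hs' : ∀ q, f' (s' q) = q := fun q => by
    rw [← Scheme.Hom.comp_apply, pullback.lift_snd]; rfl
  have hpσ : ∀ q, p (σ q) = h q := fun q => by rw [← Scheme.Hom.comp_apply, pullback.lift_fst]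
  have hE := S1324.result f g hg f' p G (IsPullback.of_hasPullback f G) s' (pullback.lift_snd _ _ _)
    (pullback.lift_fst _ _ _)
  haveI : LocallyOfFiniteType f' := inferInstanceAs (LocallyOfFiniteType (pullback.snd f G))
  haveI : IsLocallyNoetherian X' := LocallyOfFiniteType.isLocallyNoetherian f'
  let C' := connectedComponentIn (f' ⁻¹' {pt}) (s' pt)
  have hC'sub : C' ⊆ f' ⁻¹' {pt} := connectedComponentIn_subset _ _
  have hC'C : ∀ z ∈ C', p z ∈ connectedComponentIn (f ⁻¹' {y}) (g y) := by
    intro z hz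
    have h1 : z ∈ MoreMor.sectionComponents f' s' :=
      isPreconnected_subset_sectionComponents f' s' (pullback.lift_snd _ _ _) pt hz
    rw [hE] at h1
    have h2 : f (p z) = y := by
      rw [← Scheme.Hom.comp_apply, pullback.condition, Scheme.Hom.comp_apply]
      have h3 : f' z = pt := hC'sub hz
      show G (f' z) = y
      rw [h3, hGpt]
    exact (mem_sectionComponents_iff_of_eq f g h2).1 h1
  -- the connected open piece
  haveI hlcX : LocallyConnectedSpace ↥X' := H23.LocNoethTop.locallyConnectedSpace fun z => by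
    obtain ⟨_, ⟨(V : X'.Opens), hV : IsAffineOpen V, rfl⟩, hzV, -⟩ :=
      X'.isBasis_affineOpens.exists_subset_of_mem_open (Set.mem_univ z) isOpen_univ
    haveI : IsNoetherianRing Γ(X', V) := IsLocallyNoetherian.component_noetherian ⟨V, hV⟩
    exact ⟨V, V.isOpen.mem_nhds hzV, noetherianSpace_of_isAffineOpen V hV⟩
  have hpcl : IsClosed ({pt} : Set S) := isClosed_singleton_closedPoint A
  have hF₀ : IsClosed (f' ⁻¹' {pt}) := hpcl.preimage f'.continuous
  have hC'open : ∃ O : Set X', IsOpen O ∧ O ∩ f' ⁻¹' {pt} = C' := by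
    haveI : LocallyConnectedSpace ↥(f' ⁻¹' {pt}) := H23.LocNoethTop.locallyConnectedSpace fun z => by
      obtain ⟨_, ⟨(V : X'.Opens), hV : IsAffineOpen V, rfl⟩, hzV, -⟩ :=
        X'.isBasis_affineOpens.exists_subset_of_mem_open (Set.mem_univ z.1) isOpen_univ
      haveI : IsNoetherianRing Γ(X', V) := IsLocallyNoetherian.component_noetherian ⟨V, hV⟩
      haveI : NoetherianSpace ↥(V : Set X') := noetherianSpace_of_isAffineOpen V hV
      refine ⟨Subtype.val ⁻¹' (V : Set X'), (V.isOpen.preimage continuous_subtype_val).mem_nhds hzV, ?_⟩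
      let ι : ↑(Subtype.val ⁻¹' (V : Set X') : Set ↥(f' ⁻¹' {pt})) → ↥(V : Set X') := fun w => ⟨w.1.1, w.2⟩
      have hι : Topology.IsInducing ι :=
        (Topology.IsInducing.subtypeVal.comp Topology.IsInducing.subtypeVal).codRestrict fun w => (ι w).2
      exact hι.noetherianSpace
    obtain ⟨O, hO, hOeq⟩ := isOpen_induced_iff.1
      (isOpen_connectedComponent (x := (⟨s' pt, hs' pt⟩ : ↥(f' ⁻¹' {pt}))))
    refine ⟨O, hO, ?_⟩
    show O ∩ f' ⁻¹' {pt} = connectedComponentIn (f' ⁻¹' {pt}) (s' pt)
    rw [connectedComponentIn_eq_image (show s' pt ∈ f' ⁻¹' {pt} from hs' pt), ← hOeq]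
    ext z
    exact ⟨fun hz => ⟨⟨z, hz.2⟩, hz.1, rfl⟩, by rintro ⟨w, hw, rfl⟩; exact ⟨hw, w.2⟩⟩
  obtain ⟨O, hO, hOC⟩ := hC'open
  let D := f' ⁻¹' {pt} \ O
  have hD : IsClosed D := hF₀.inter hO.isClosed_compl
  have hcD : s' pt ∈ Dᶜ := fun hd => hd.2 (hOC.ge (mem_connectedComponentIn (hs' pt))).1
  let U₀ : X'.Opens := ⟨connectedComponentIn Dᶜ (s' pt), hD.isOpen_compl.connectedComponentIn⟩
  have hU₀D : (U₀ : Set X') ⊆ Dᶜ := connectedComponentIn_subset _ _
  have hU₀fib : ∀ z ∈ U₀, f' z = pt → z ∈ C' := fun z hz hzpt =>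
    hOC.le ⟨by_contra fun hn => hU₀D hz ⟨hzpt, hn⟩, hzpt⟩
  have hC'U₀ : C' ⊆ U₀ := isPreconnected_connectedComponentIn.subset_connectedComponentIn
    (mem_connectedComponentIn (hs' pt)) (fun z hz hd => hd.2 (hOC.ge hz).1)
  haveI : ConnectedSpace ↥U₀.toScheme := isConnected_iff_connectedSpace.1
    ⟨⟨s' pt, mem_connectedComponentIn hcD⟩, isPreconnected_connectedComponentIn⟩
  -- geometric reducedness on the component
  have hgr : ∀ z, ∀ hz : z ∈ C', FBase.IsGeomReducedAt (f'.fiberToSpecResidueField pt) ((f'.fiberHomeo pt).symm ⟨z, hC'sub hz⟩) := by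
    intro z hz
    have hz' : f' z = pt := hC'sub hz
    have hG : G pt = f (p z) := hGpt.trans (connectedComponentIn_subset (f ⁻¹' {y}) (g y) (hC'C z hz)).symm
    have h0 := (H _ (hC'C z hz)).2
    obtain ⟨w, hw, hwr⟩ : ∃ w : ↥(f.fiber (G pt)), f.fiberι (G pt) w = p z ∧
        FBase.IsGeomReducedAt (f.fiberToSpecResidueField (G pt)) w := by
      rw [hG]
      exact ⟨_, f.fiberι_asFiber (p z), h0⟩
    refine isGeomReducedAt_fibre_baseChange f G pt w _ ?_ hwr
    rw [hw]
    exact congrArg (pullback.fst f G) ((f'.fiberι_fiberHomeo_symm pt _))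
  -- flatness of the piece
  haveI : Flat (U₀.ι ≫ f') := by
    rw [Flat.iff_flat_stalkMap]
    intro z
    rw [Scheme.Hom.stalkMap_comp, CommRingCat.hom_comp]
    refine RingHom.Flat.comp ?_ (Flat.stalkMap U₀.ι z)
    let q : X' := U₀.ι z
    have hq : q ∈ U₀ := z.2
    show (f'.stalkMap q).hom.Flat
    by_cases hqpt : f' q = pt
    · refine S2561.result f' q (fun w hw _ => ?_) ?_ ?_
      · have hwC : f'.fiberι (f' q) w ∈ C' := by
          have h1 : f'.fiberι (f' q) w ⤳ q := by
            have h2 := (specializes_iff_mem_closure.2 hw).map (f'.fiberι (f' q)).continuous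
            rwa [f'.fiberι_asFiber] at h2
          have h3 : f'.fiberι (f' q) w ∈ f' ⁻¹' {f' q} := (f'.range_fiberι _).le ⟨w, rfl⟩
          have hqC := hU₀fib q hq hqpt
          rw [show C' = connectedComponentIn (f' ⁻¹' {pt}) q from connectedComponentIn_eq hqC]
          refine (isPreconnected_singleton.subset_closure
            (t := ({f'.fiberι (f' q) w, q} : Set X')) (Set.singleton_subset_iff.2 (Or.inl rfl)) ?_).subset_connectedComponentIn
            (Or.inr rfl) ?_ (Or.inl rfl)
          · rintro a (rfl | rfl)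
            · exact subset_closure rfl
            · exact h1.mem_closure
          · rintro a (rfl | rfl)
            · exact (show f' (f'.fiberι (f' q) w) = f' q from h3).trans hqpt
            · exact hqpt
        exact QHomeo.univOpenAt_of_isPullback (H _ (hC'C _ hwC)).1 (IsPullback.of_hasPullback f G) _ rfl
      · have h1 := hgr q (hU₀fib q hq hqpt)
        have key : ∀ (s : S) (w : ↥(f'.fiber s)) (_ : f'.fiberι s w = q),
            FBase.IsGeomReducedAt (f'.fiberToSpecResidueField s) w →
            FBase.IsGeomReducedAt (f'.fiberToSpecResidueField (f' q)) (f'.asFiber q) := by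
          intro s w hw hgrw
          obtain rfl : s = f' q := by
            rw [← hw]; exact ((f'.range_fiberι s).le ⟨w, rfl⟩ : f' (f'.fiberι s w) = s).symm
          rwa [show f'.asFiber q = w from
            (f'.fiberι (f' q)).isEmbedding.injective ((f'.fiberι_asFiber q).trans hw.symm)]
        exact key pt _ (f'.fiberι_fiberHomeo_symm pt _) h1
      · haveI : IsReduced S := inferInstance
        infer_instance
    · have hgen : f' q = genericPoint S := by
        rcases eq_or_ne (f' q).asIdeal ⊥ with hb | hb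
        · rw [genericPoint_eq_bot_of_affine]; exact PrimeSpectrum.ext hb
        · exact absurd (PrimeSpectrum.ext (IsLocalRing.eq_maximalIdeal ((f' q).isPrime.isMaximal hb))) hqpt
      have hfield : IsField (S.presheaf.stalk (f' q)) := by
        rw [hgen]; exact Field.toIsField S.functionField
      letI := hfield.toField
      letI := (f'.stalkMap q).hom.toAlgebra
      exact (inferInstance : Module.Flat (S.presheaf.stalk (f' q)) (X'.presheaf.stalk q))
  -- reducedness of the closed fibre
  have hred : IsReduced ((U₀.ι ≫ f').fiber pt) := by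
    let Ψ : (U₀.ι ≫ f').fiber pt ⟶ f'.fiber pt :=
      pullback.map _ _ _ _ U₀.ι (𝟙 _) (𝟙 _) (by rw [Category.comp_id]) (by simp)
    haveI : IsOpenImmersion Ψ := Scheme.pullback_map_isOpenImmersion _ _ _ _ _ _ _ _ _
    haveI : ∀ w, _root_.IsReduced (((U₀.ι ≫ f').fiber pt).presheaf.stalk w) := by
      intro w
      have hΨ : f'.fiberι pt (Ψ w) = U₀.ι ((U₀.ι ≫ f').fiberι pt w) := by
        rw [← Scheme.Hom.comp_apply, ← Scheme.Hom.comp_apply]
        exact congrArg (fun m : _ ⟶ X' => m w) (pullback.lift_fst _ _ _)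
      have hmem : f'.fiberι pt (Ψ w) ∈ C' := hU₀fib _ (hΨ ▸ ((U₀.ι ≫ f').fiberι pt w).2)
        ((f'.range_fiberι pt).le ⟨_, rfl⟩)
      have h1 := hgr _ hmem
      rw [show (f'.fiberHomeo pt).symm ⟨f'.fiberι pt (Ψ w), hC'sub hmem⟩ = Ψ w from
        (f'.fiberι pt).isEmbedding.injective (f'.fiberι_fiberHomeo_symm pt _)] at h1
      haveI := isReduced_stalk_of_geomReducedAt (k := S.residueField pt) _ _ h1
      let ε := (asIso (Ψ.stalkMap w)).commRingCatIsoToRingEquiv
      exact isReduced_of_injective ε.symm ε.symm.injective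
    exact isReduced_of_isReduced_stalk _
  -- connectedness of the generic fibre of the piece
  have hconn := FlatMisc.connected_generic_fibre (U₀.ι ≫ f') hred
  let η : S := (⟨⊥, Ideal.isPrime_bot⟩ : PrimeSpectrum A)
  have hηsp : ∀ q : S, η ⤳ q := fun q =>
    (PrimeSpectrum.le_iff_specializes (⟨⊥, Ideal.isPrime_bot⟩ : PrimeSpectrum A) (q : PrimeSpectrum A)).1 bot_le
  have hb : σ pt ∈ C' := by
    have hbp : f' (σ pt) = pt := hσ pt
    refine (mem_sectionComponents_iff_of_eq f' s' hbp).1 ?_
    rw [hE]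
    show p (σ pt) ∈ MoreMor.sectionComponents f g
    rw [hpσ, hhc]
    exact isPreconnected_subset_sectionComponents f g hg y hx
  have ha : σ η ∈ U₀ := ((hηsp pt).map σ.continuous).mem_open U₀.isOpen (hC'U₀ hb)
  have hd : s' η ∈ U₀ := ((hηsp pt).map s'.continuous).mem_open U₀.isOpen
    (hC'U₀ (mem_connectedComponentIn (hs' pt)))
  have hpre : _root_.IsPreconnected ((U₀ : Set X') ∩ f' ⁻¹' {η}) := by
    have := hconn.isPreconnected.image U₀.ι U₀.ι.continuous.continuousOn
    convert this using 1
    ext z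
    constructor
    · rintro ⟨hz, hzη⟩
      exact ⟨⟨z, hz⟩, (Scheme.Hom.comp_apply _ _ _).trans hzη, rfl⟩
    · rintro ⟨w, hw, rfl⟩
      exact ⟨w.2, (Scheme.Hom.comp_apply _ _ _).symm.trans hw⟩
  have haE : σ η ∈ MoreMor.sectionComponents f' s' :=
    (mem_sectionComponents_iff_of_eq f' s' (hσ η)).2
      (hpre.subset_connectedComponentIn ⟨hd, hs' η⟩ Set.inter_subset_right ⟨ha, hσ η⟩)
  rw [hE] at haE
  have hpη : p (σ η) = x' := by
    rw [hpσ]
    have h1 : Spec.map (CommRingCat.ofHom A.subtype) (closedPoint (X.residueField x')) = η := by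
      refine PrimeSpectrum.ext ?_
      show Ideal.comap A.subtype (maximalIdeal (X.residueField x')) = ⊥
      rw [maximalIdeal_eq_bot]
      exact Ideal.comap_bot_of_injective _ Subtype.val_injective
    rw [← h1, ← Scheme.Hom.comp_apply, hhg, Category.comp_id]
    exact Scheme.fromSpecResidueField_apply x' _
  rw [← hpη]
  exact haE

end Groth.Agent.H1Sect
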