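import Groth.Agent.H1Sect.Nhd
import Groth.Agent.S2075
import Groth.Agent.S9218
import Groth.Agent.ConsPropLib.Loci
import Mathlib

/-!
# Section components of flat morphisms of finite presentation
-/

universe u

set_option backward.isDefEq.respectTransparency false
set_option backward.isDefEq.respectTransparency.types false
set_option maxHeartbeats 1000000

open AlgebraicGeometry CategoryTheory CategoryTheory.Limits TopologicalSpace IsLocalRing Topology

noncomputable section

namespace Groth.Agent.H1Sect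

variable {X Y : Scheme.{u}}

/-- A flat morphism of finite presentation with a section over an affine scheme comes from a Noetherian one. -/
theorem exists_flat_section_model [IsAffine Y] (f : X ⟶ Y) [LocallyOfFinitePresentation f] [QuasiCompact f]
    [QuasiSeparated f] [Flat f] (s : Y ⟶ X) (hs : s ≫ f = 𝟙 Y) :
    ∃ (S₀ X₀ : Scheme.{u}) (π : Y ⟶ S₀) (f₀ : X₀ ⟶ S₀) (s₀ : S₀ ⟶ X₀) (q : X ⟶ X₀),
      IsNoetherian S₀ ∧ LocallyOfFiniteType f₀ ∧ QuasiCompact f₀ ∧ Flat f₀ ∧
        IsPullback q f f₀ π ∧ s₀ ≫ f₀ = 𝟙 S₀ ∧ s ≫ q = π ≫ s₀ := by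
  obtain ⟨I, _, _, D, c, hc, e, hA, hN⟩ := ConsPropLib.exists_noetherian_limit Y
  haveI := hA
  haveI : ∀ {i j : I} (φ : i ⟶ j), IsAffineHom (D.map φ) := fun φ => isAffineHom_of_isAffine _
  haveI : ∀ (i j : I) (φ : i ⟶ j), IsAffineHom (D.map φ) := fun i j φ => isAffineHom_of_isAffine _
  let h : X ⟶ c.pt := f ≫ e.inv
  obtain ⟨i, X₁, u₁, g₁, hX⟩ := ConsPropLib.hasModel hc h
  haveI := hX.lfp; haveI := hX.compactSpace; haveI := hX.quasiSeparatedSpace
  haveI : Flat h := inferInstanceAs (Flat (f ≫ e.inv))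
  obtain ⟨j, φ, Xi, Yi, fi, gi, pY, pX, hpY, hpX, hfl⟩ := S2075.result D c hc i u₁ (𝟙 (D.obj i)) h (𝟙 c.pt)
    (c.π.app i) g₁ (IsPullback.id_horiz (c.π.app i) |>.flip) hX.sq
  haveI := hfl
  have mX := hX.pushed φ
  haveI := mX.lfp; haveI := mX.qc; haveI := mX.compactSpace; haveI := mX.quasiSeparatedSpace
  haveI : IsIso gi := MorphismProperty.of_isPullback (P := MorphismProperty.isomorphisms Scheme.{u}) hpY
    (inferInstanceAs (IsIso (𝟙 (D.obj i))))
  have hpb : IsPullback pX (fi ≫ gi) u₁ (D.map φ) := by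
    have h2 := hpX.paste_vert hpY
    rwa [Category.comp_id] at h2
  haveI : Flat (pullback.snd u₁ (D.map φ)) := by
    rw [← IsPullback.isoPullback_inv_snd hpb]; infer_instance
  let s' : c.pt ⟶ X := e.hom ≫ s
  have hs' : s' ≫ h = 𝟙 c.pt := by
    show (e.hom ≫ s) ≫ f ≫ e.inv = _
    rw [Category.assoc, reassoc_of% hs, Iso.hom_inv_id]
  obtain ⟨l, χ, fl, sY, sX, hfl', hA1, hA2, hB1, hB2, hsq⟩ :=
    S9218.result D c hc j (𝟙 (D.obj j)) (pullback.snd u₁ (D.map φ)) (c.π.app j) (𝟙 c.pt)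
      (IsPullback.id_horiz (c.π.app j) |>.flip) (hX.push φ) h mX.sq s' hs'
  have mX' := mX.pushed χ
  haveI := mX'.lfp; haveI := mX'.qc
  have eX : sX = mX.push χ :=
    pullback.hom_ext (hB1.trans (mX.push_fst χ).symm) (hB2.trans (mX.push_snd χ).symm)
  subst eX
  let ι := pullback.snd (𝟙 (D.obj j)) (D.map χ)
  refine ⟨D.obj l, _, e.inv ≫ c.π.app l, pullback.snd (pullback.snd u₁ (D.map φ)) (D.map χ), inv ι ≫ fl,
    mX.push χ, hN l, inferInstance, inferInstance, inferInstance, ?_, ?_, ?_⟩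
  · exact mX'.sq.of_iso (Iso.refl _) (Iso.refl _) e (Iso.refl _) (by simp) (by simp [h]) (by simp) (by simp)
  · rw [Category.assoc, hfl', IsIso.inv_hom_id]
  · have h3 : sY ≫ ι = c.π.app l := hA2.trans (Category.id_comp _)
    have h4 : sY = c.π.app l ≫ inv ι := by rw [← h3, Category.assoc, IsIso.hom_inv_id, Category.comp_id]
    have h5 := congrArg (e.inv ≫ ·) hsq
    simp only [s', Category.assoc, Iso.inv_hom_id_assoc, h4] at h5
    rw [← h5, Category.assoc]

theorem isGeomReducedAt_of_isPullback_iff {k k' : Type u} [Field k] [Field k'] [Algebra k k'] {F F' : Scheme.{u}}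
    (t : F ⟶ Spec (CommRingCat.of k)) (t' : F' ⟶ Spec (CommRingCat.of k')) (Φ : F' ⟶ F)
    (sq : IsPullback Φ t' t (Spec.map (CommRingCat.ofHom (algebraMap k k')))) (w' : F')
    (hw : FBase.IsGeomReducedAt t' w') : FBase.IsGeomReducedAt t (Φ w') := by
  let e : F' ≅ FBase.bc t k' := sq.isoPullback
  have he : e.hom ≫ FBase.bcπ t k' = Φ := sq.isoPullback_hom_fst
  have he' : e.hom ≫ FBase.bcStr t k' = t' := sq.isoPullback_hom_snd
  rw [← he, Scheme.Hom.comp_apply, GeomField.isGeomReducedAt_bc_iff t k']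
  refine isGeomReducedAt_openImmersion t' (FBase.bcStr t k') e.inv (by rw [← he', Iso.inv_hom_id_assoc]) _ ?_
  rw [← Scheme.Hom.comp_apply, Iso.hom_inv_id]
  exact hw

theorem isGeomReducedAt_fibre_descend {X' Y' : Scheme.{u}} {f : X ⟶ Y} {g : Y' ⟶ Y} {f' : X' ⟶ Y'} {g' : X' ⟶ X}
    (sq : IsPullback g' f' f g) (z : X')
    (hw : FBase.IsGeomReducedAt (f'.fiberToSpecResidueField (f' z)) (f'.asFiber z)) :
    FBase.IsGeomReducedAt (f.fiberToSpecResidueField (f (g' z))) (f.asFiber (g' z)) := by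
  letI : Algebra (Y.residueField (g (f' z))) (Y'.residueField (f' z)) := (g.residueFieldMap (f' z)).hom.toAlgebra
  let Φ := pullback.map f' (Y'.fromSpecResidueField (f' z)) f (Y.fromSpecResidueField (g (f' z))) g'
    (Spec.map (g.residueFieldMap (f' z))) g sq.w.symm (by simp)
  have h1 := isGeomReducedAt_of_isPullback_iff (k := Y.residueField (g (f' z))) (k' := Y'.residueField (f' z))
    _ _ Φ (isPullback_fiberToSpecResidueField_of_isPullback sq (f' z)) (f'.asFiber z) hw
  have hΦ : f.fiberι (g (f' z)) (Φ (f'.asFiber z)) = g' z := by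
    have e : Φ ≫ f.fiberι (g (f' z)) = f'.fiberι (f' z) ≫ g' := pullback.lift_fst _ _ _
    exact (Scheme.Hom.comp_apply _ _ _).symm.trans ((congrArg (fun m : f'.fiber (f' z) ⟶ X => m (f'.asFiber z)) e).trans
      ((Scheme.Hom.comp_apply _ _ _).trans (congrArg g' (f'.fiberι_asFiber z))))
  have key : ∀ (y : Y) (w : ↥(f.fiber y)) (_ : f.fiberι y w = g' z),
      FBase.IsGeomReducedAt (f.fiberToSpecResidueField y) w →
      FBase.IsGeomReducedAt (f.fiberToSpecResidueField (f (g' z))) (f.asFiber (g' z)) := by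
    intro y w hw' hgr
    obtain rfl : y = f (g' z) := by
      rw [← hw']; exact ((f.range_fiberι y).le ⟨w, rfl⟩ : f (f.fiberι y w) = y).symm
    rwa [show f.asFiber (g' z) = w from
      (f.fiberι _).isEmbedding.injective ((f.fiberι_asFiber _).trans hw'.symm)]
  exact key _ _ hΦ h1

/-- Section components of flat morphisms of finite presentation. -/
theorem subset_interior_flat (f : X ⟶ Y) [Flat f] [LocallyOfFinitePresentation f] [QuasiCompact f] [QuasiSeparated f]
    (g : Y ⟶ X) (hg : g ≫ f = 𝟙 Y) (y : Y)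
    (hred : ∀ x' : ↥(f.fiber y), f.fiberι y x' ∈ connectedComponentIn (f ⁻¹' {y}) (g y) →
      FBase.IsGeomReducedAt (f.fiberToSpecResidueField y) x') :
    connectedComponentIn (f ⁻¹' {y}) (g y) ⊆ interior (MoreMor.sectionComponents f g) := by
  intro x hx
  obtain ⟨V, hV, hyV, -⟩ := exists_isAffineOpen_mem_and_subset (U := (⊤ : Y.Opens)) (x := y) trivial
  haveI : IsAffine V.toScheme := hV
  let fV := pullback.snd f V.ι
  let p := pullback.fst f V.ι
  let sV : V.toScheme ⟶ pullback f V.ι :=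
    pullback.lift (V.ι ≫ g) (𝟙 _) (by rw [Category.assoc, hg, Category.id_comp, Category.comp_id])
  obtain ⟨S₀, X₀, π, f₀, s₀, q, hS₀, hl, hqc, hfl, sq, hs₀, hsq⟩ :=
    exists_flat_section_model fV sV (pullback.lift_snd _ _ _)
  haveI := hS₀; haveI := hl; haveI := hqc; haveI := hfl
  haveI : LocallyOfFinitePresentation f₀ := LocallyOfFinitePresentation.iff_locallyOfFiniteType.2 hl
  have e₁ := S1324.result f₀ s₀ hs₀ fV q π sq sV (pullback.lift_snd _ _ _) hsq
  have e₂ := S1324.result f g hg fV p V.ι (IsPullback.of_hasPullback f V.ι) sV (pullback.lift_snd _ _ _)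
    (pullback.lift_fst _ _ _)
  set v : ↥V.toScheme := ⟨y, hyV⟩
  have hfp : ∀ z, f (p z) = (fV z).1 := fun z => by
    rw [← Scheme.Hom.comp_apply, pullback.condition, Scheme.Hom.comp_apply]; rfl
  have hfx : f x = y := connectedComponentIn_subset (f ⁻¹' {y}) (g y) hx
  obtain ⟨z, hzx, hzv⟩ := Scheme.exists_preimage_of_isPullback (IsPullback.of_hasPullback f V.ι) x v hfx
  have hzE : q z ∈ MoreMor.sectionComponents f₀ s₀ := by
    have h1 : z ∈ MoreMor.sectionComponents fV sV := by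
      rw [e₂]
      show p z ∈ MoreMor.sectionComponents f g
      rw [hzx]; exact isPreconnected_subset_sectionComponents f g hg y hx
    rwa [e₁] at h1
  have hfz : f₀ (q z) = π v := by rw [← Scheme.Hom.comp_apply, sq.w, Scheme.Hom.comp_apply, hzv]
  have H : ∀ w ∈ connectedComponentIn (f₀ ⁻¹' {π v}) (s₀ (π v)), EGA43.IsUnivOpenAt f₀ w ∧
      FBase.IsGeomReducedAt (f₀.fiberToSpecResidueField (f₀ w)) (f₀.asFiber w) := by
    intro w hw
    refine ⟨H1Near.isUnivOpenAt_of_universallyOpen f₀ w, ?_⟩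
    have hfw : f₀ w = π v := connectedComponentIn_subset (f₀ ⁻¹' {π v}) _ hw
    obtain ⟨w', hw'w, hw'v⟩ := Scheme.exists_preimage_of_isPullback sq w v hfw
    have h1 : w' ∈ MoreMor.sectionComponents fV sV := by
      rw [e₁]
      show q w' ∈ MoreMor.sectionComponents f₀ s₀
      rw [hw'w]; exact isPreconnected_subset_sectionComponents f₀ s₀ hs₀ _ hw
    rw [e₂] at h1
    have hfw' : f (p w') = y := by rw [hfp, hw'v]
    obtain ⟨x', hx'⟩ : p w' ∈ Set.range (f.fiberι y) := (f.range_fiberι y).ge hfw'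
    have h2 := hred x' (hx'.symm ▸ (mem_sectionComponents_iff_of_eq f g hfw').1 h1)
    have hV' : V.ι (fV w') = y := by rw [hw'v]; rfl
    obtain ⟨w₂, hw₂, hw₂r⟩ : ∃ w₂ : ↥(f.fiber (V.ι (fV w'))), f.fiberι _ w₂ = p w' ∧
        FBase.IsGeomReducedAt (f.fiberToSpecResidueField (V.ι (fV w'))) w₂ := by
      rw [hV']; exact ⟨x', hx', h2⟩
    have h3 := isGeomReducedAt_fibre_baseChange f V.ι (fV w') w₂ (fV.asFiber w')
      (by rw [hw₂, fV.fiberι_asFiber]) hw₂r
    rw [← hw'w]
    exact isGeomReducedAt_fibre_descend sq w' h3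
  have hint := subset_interior_of_quasiCompact f₀ s₀ hs₀ (π v) H
    ((mem_sectionComponents_iff_of_eq f₀ s₀ hfz).1 hzE)
  have h4 : z ∈ interior (MoreMor.sectionComponents fV sV) := by
    rw [e₁]
    exact preimage_interior_subset_interior_preimage q.continuous hint
  rw [← hzx]
  refine interior_mono (Set.image_subset_iff.2 e₂.le) ?_
  exact p.isOpenEmbedding.isOpenMap.image_interior_subset _ ⟨z, h4, rfl⟩

end Groth.Agent.H1Sect
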