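import Groth.Agent.H1Sect.DvrComp
import Groth.Agent.H1Spread.Constr
import Groth.Agent.FibDim.Comp
import Mathlib

/-!
# Section components are neighbourhoods of geometrically reduced components
-/

universe u

set_option backward.isDefEq.respectTransparency false
set_option backward.isDefEq.respectTransparency.types false
set_option maxHeartbeats 1000000

open AlgebraicGeometry CategoryTheory CategoryTheory.Limits TopologicalSpace IsLocalRing Topology

noncomputable section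

namespace Groth.Agent.H1Sect
open Groth.Agent.H1Spread

variable {X Y : Scheme.{u}}

theorem isGeomReducedAt_openImmersion {k : Type u} [Field k] {F F' : Scheme.{u}} (t : F ⟶ Spec (CommRingCat.of k))
    (t' : F' ⟶ Spec (CommRingCat.of k)) (Ψ : F' ⟶ F) [IsOpenImmersion Ψ] (hΨ : Ψ ≫ t = t') (w : F')
    (hw : FBase.IsGeomReducedAt t (Ψ w)) : FBase.IsGeomReducedAt t' w := by
  intro K _ _ z hz
  let E : FBase.bc t' K ⟶ FBase.bc t K :=
    pullback.map _ _ _ _ Ψ (𝟙 _) (𝟙 _) (by rw [Category.comp_id, hΨ]) (by simp)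
  haveI : IsOpenImmersion E := Scheme.pullback_map_isOpenImmersion _ _ _ _ _ _ _ _ _
  have h1 := hw K (E z) (by
    show (E ≫ pullback.fst _ _) z = _
    rw [pullback.lift_fst, Scheme.Hom.comp_apply]
    exact congrArg Ψ hz)
  let ε := (asIso (E.stalkMap z)).commRingCatIsoToRingEquiv
  exact isReduced_of_injective ε.symm ε.symm.injective

/-- The core, over a Noetherian base with a quasi-compact morphism. -/
theorem subset_interior_of_quasiCompact [IsNoetherian Y] (f : X ⟶ Y) [LocallyOfFiniteType f] [QuasiCompact f]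
    (g : Y ⟶ X) (hg : g ≫ f = 𝟙 Y) (y : Y)
    (H : ∀ z ∈ connectedComponentIn (f ⁻¹' {y}) (g y), EGA43.IsUnivOpenAt f z ∧
      FBase.IsGeomReducedAt (f.fiberToSpecResidueField (f z)) (f.asFiber z)) :
    connectedComponentIn (f ⁻¹' {y}) (g y) ⊆ interior (MoreMor.sectionComponents f g) := fun x hx =>
  mem_interior_iff_mem_nhds.2 (FibDim.mem_nhds_of_generizations
    (isConstructible_sectionComponents f g hg).isLocallyConstructible
    fun _ hsp => mem_sectionComponents_of_specializes f g hg y H hx hsp)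

theorem exists_qc_connecting [IsLocallyNoetherian Y] (f : X ⟶ Y) [LocallyOfFiniteType f] (g : Y ⟶ X)
    (hg : g ≫ f = 𝟙 Y) (y : Y) {x : X} (hx : x ∈ connectedComponentIn (f ⁻¹' {y}) (g y)) :
    ∃ X₁ : X.Opens, IsCompact (X₁ : Set X) ∧ g y ∈ X₁ ∧
      x ∈ connectedComponentIn ((X₁ : Set X) ∩ f ⁻¹' {y}) (g y) := by
  haveI : IsLocallyNoetherian X := LocallyOfFiniteType.isLocallyNoetherian f
  set F := f ⁻¹' {y}
  set C := connectedComponentIn F (g y)
  have hgy : g y ∈ F := by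
    show f (g y) = y
    rw [← Scheme.Hom.comp_apply, hg]; rfl
  let P : X → Prop := fun z => ∃ X₁ : X.Opens, IsCompact (X₁ : Set X) ∧ g y ∈ X₁ ∧
    z ∈ connectedComponentIn ((X₁ : Set X) ∩ F) (g y)
  haveI : LocallyConnectedSpace ↥(f.fiber y) := H23.LocNoethTop.locallyConnectedSpace fun w => by
    haveI : IsLocallyNoetherian (f.fiber y) := LocallyOfFiniteType.isLocallyNoetherian (f.fiberToSpecResidueField y)
    obtain ⟨_, ⟨(V : (f.fiber y).Opens), hV : IsAffineOpen V, rfl⟩, hwV, -⟩ :=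
      (f.fiber y).isBasis_affineOpens.exists_subset_of_mem_open (Set.mem_univ w) isOpen_univ
    haveI : IsNoetherianRing Γ(f.fiber y, V) := IsLocallyNoetherian.component_noetherian ⟨V, hV⟩
    exact ⟨V, V.isOpen.mem_nhds hwV, noetherianSpace_of_isAffineOpen V hV⟩
  haveI : LocallyConnectedSpace ↥F := (f.fiberHomeo y).symm.locallyConnectedSpace
  -- each point has a connected neighbourhood in the fibre inside a quasi-compact open
  have key : ∀ z : ↥F, ∃ (V : X.Opens) (W : Set ↥F), IsCompact (V : Set X) ∧ IsOpen W ∧ z ∈ W ∧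
      _root_.IsPreconnected (Subtype.val '' W) ∧ Subtype.val '' W ⊆ (V : Set X) ∩ F := by
    intro z
    obtain ⟨_, ⟨(V : X.Opens), hV : IsAffineOpen V, rfl⟩, hzV, -⟩ :=
      X.isBasis_affineOpens.exists_subset_of_mem_open (Set.mem_univ z.1) isOpen_univ
    refine ⟨V, connectedComponentIn (Subtype.val ⁻¹' (V : Set X)) z, hV.isCompact,
      (V.isOpen.preimage continuous_subtype_val).connectedComponentIn, mem_connectedComponentIn hzV,
      isPreconnected_connectedComponentIn.image _ continuous_subtype_val.continuousOn, ?_⟩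
    rintro _ ⟨w, hw, rfl⟩
    exact ⟨connectedComponentIn_subset (Subtype.val ⁻¹' (V : Set X)) z hw, w.2⟩
  have step : ∀ z : ↥F, ∀ W : Set ↥F, ∀ V : X.Opens, IsCompact (V : Set X) →
      _root_.IsPreconnected (Subtype.val '' W) → Subtype.val '' W ⊆ (V : Set X) ∩ F →
      z ∈ W → P z.1 → ∀ w ∈ W, P w.1 := by
    rintro z W V hVc hWp hWs hzW ⟨X₁, h1, h2, h3⟩ w hw
    refine ⟨X₁ ⊔ V, h1.union hVc, Or.inl h2, ?_⟩
    have hmem : z.1 ∈ connectedComponentIn (((X₁ ⊔ V : X.Opens) : Set X) ∩ F) (g y) :=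
      connectedComponentIn_mono (g y) (Set.inter_subset_inter_left _ Set.subset_union_left) h3
    rw [connectedComponentIn_eq hmem]
    exact hWp.subset_connectedComponentIn ⟨z, hzW, rfl⟩
      (hWs.trans (Set.inter_subset_inter_left _ Set.subset_union_right)) ⟨w, hw, rfl⟩
  have hcl : IsClopen {z : ↥F | P z.1} := by
    constructor
    · refine ⟨isOpen_iff_forall_mem_open.2 fun z (hz : ¬ P z.1) => ?_⟩
      obtain ⟨V, W, hVc, hW, hzW, hWp, hWs⟩ := key z
      exact ⟨W, fun w hw hPw => hz (step w W V hVc hWp hWs hw hPw z hzW), hW, hzW⟩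
    · refine isOpen_iff_forall_mem_open.2 fun z (hz : P z.1) => ?_
      obtain ⟨V, W, hVc, hW, hzW, hWp, hWs⟩ := key z
      exact ⟨W, fun w hw => step z W V hVc hWp hWs hzW hz w hw, hW, hzW⟩
  have hP : P (g y) := by
    obtain ⟨_, ⟨(V : X.Opens), hV : IsAffineOpen V, rfl⟩, hgV, -⟩ :=
      X.isBasis_affineOpens.exists_subset_of_mem_open (Set.mem_univ (g y)) isOpen_univ
    exact ⟨V, hV.isCompact, hgV, mem_connectedComponentIn ⟨hgV, hgy⟩⟩
  rw [show C = Subtype.val '' connectedComponent (⟨g y, hgy⟩ : F) from connectedComponentIn_eq_image hgy] at hx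
  obtain ⟨x₀, hx₀, rfl⟩ := hx
  exact hcl.connectedComponent_subset (x := (⟨g y, hgy⟩ : F)) hP hx₀

/-- The section components are a neighbourhood of a geometrically reduced component. -/
theorem subset_interior [IsLocallyNoetherian Y] (f : X ⟶ Y) [LocallyOfFiniteType f] (g : Y ⟶ X)
    (hg : g ≫ f = 𝟙 Y) (y : Y)
    (H : ∀ z ∈ connectedComponentIn (f ⁻¹' {y}) (g y), EGA43.IsUnivOpenAt f z ∧
      FBase.IsGeomReducedAt (f.fiberToSpecResidueField (f z)) (f.asFiber z)) :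
    connectedComponentIn (f ⁻¹' {y}) (g y) ⊆ interior (MoreMor.sectionComponents f g) := by
  intro x hx
  haveI : IsLocallyNoetherian X := LocallyOfFiniteType.isLocallyNoetherian f
  obtain ⟨X₁, hX₁c, hgX₁, hxX₁⟩ := exists_qc_connecting f g hg y hx
  obtain ⟨V, hV, hyV, hVX₁⟩ := exists_isAffineOpen_mem_and_subset (U := g ⁻¹ᵁ X₁) (x := y) hgX₁
  haveI : IsAffine V.toScheme := hV
  haveI : IsNoetherian V.toScheme := { }
  have hgV : ∀ v, v ∈ V → f (g v) = v := fun v _ => by rw [← Scheme.Hom.comp_apply, hg]; rfl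
  let fV := f ∣_ V
  let O : (f ⁻¹ᵁ V).toScheme.Opens := (f ⁻¹ᵁ V).ι ⁻¹ᵁ X₁
  let f₂ := O.ι ≫ fV
  haveI : CompactSpace ↥O.toScheme := by
    refine isCompact_iff_compactSpace.1 ?_
    haveI : NoetherianSpace ↥(X₁ : Set X) := by
      haveI : CompactSpace ↥X₁.toScheme := isCompact_iff_compactSpace.1 hX₁c
      haveI : IsNoetherian X₁.toScheme := {}
      exact inferInstanceAs (NoetherianSpace ↥X₁.toScheme)
    rw [(f ⁻¹ᵁ V).ι.isOpenEmbedding.isEmbedding.isCompact_iff]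
    let s : Set X := (f ⁻¹ᵁ V).ι '' (O : Set ↥(f ⁻¹ᵁ V).toScheme)
    have hs : s ⊆ (X₁ : Set X) := by rintro _ ⟨w, hw, rfl⟩; exact hw
    have h1 := (NoetherianSpace.isCompact (Subtype.val ⁻¹' s : Set ↥(X₁ : Set X))).image continuous_subtype_val
    rwa [Set.image_preimage_eq_inter_range, Subtype.range_coe, Set.inter_eq_left.2 hs] at h1
  haveI : QuasiCompact f₂ := HasAffineProperty.iff_of_isAffine.2 ‹CompactSpace ↥O.toScheme›
  let t : V.toScheme ⟶ (f ⁻¹ᵁ V).toScheme := IsOpenImmersion.lift (f ⁻¹ᵁ V).ι (V.ι ≫ g) (by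
    rintro _ ⟨v, rfl⟩
    rw [Scheme.Opens.range_ι]
    show f (g v.1) ∈ V
    rw [hgV _ v.2]; exact v.2)
  let g₂ : V.toScheme ⟶ O.toScheme := IsOpenImmersion.lift O.ι t (by
    rintro _ ⟨v, rfl⟩
    rw [Scheme.Opens.range_ι]
    show (f ⁻¹ᵁ V).ι (t v) ∈ X₁
    rw [← Scheme.Hom.comp_apply, IsOpenImmersion.lift_fac]
    exact hVX₁ v.2)
  have hg₂ : g₂ ≫ f₂ = 𝟙 _ := by
    rw [IsOpenImmersion.lift_fac_assoc, ← cancel_mono V.ι, Category.assoc, morphismRestrict_ι,
      IsOpenImmersion.lift_fac_assoc, Category.assoc, hg, Category.comp_id, Category.id_comp]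
  let j : O.toScheme ⟶ X := O.ι ≫ (f ⁻¹ᵁ V).ι
  have hjg : ∀ v, j (g₂ v) = g v.1 := fun v => by
    rw [← Scheme.Hom.comp_apply, IsOpenImmersion.lift_fac_assoc, IsOpenImmersion.lift_fac]
    rfl
  have hjf : ∀ z, f (j z) = (f₂ z).1 := fun z => by
    show f ((f ⁻¹ᵁ V).ι (O.ι z)) = ((O.ι ≫ fV) z).1
    rw [Scheme.Hom.comp_apply]
    exact (morphismRestrict_base_coe f V _).symm
  have hsub : ∀ v, j '' connectedComponentIn (f₂ ⁻¹' {v}) (g₂ v) ⊆ connectedComponentIn (f ⁻¹' {v.1}) (g v.1) := by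
    intro v
    have hm : g₂ v ∈ f₂ ⁻¹' {v} := by
      show f₂ (g₂ v) = v
      rw [← Scheme.Hom.comp_apply, hg₂]; rfl
    refine (isPreconnected_connectedComponentIn.image j j.continuous.continuousOn).subset_connectedComponentIn
      ⟨g₂ v, mem_connectedComponentIn hm, hjg v⟩ ?_
    rintro _ ⟨z, hz, rfl⟩
    show f (j z) = v.1
    rw [hjf]
    exact congrArg Subtype.val (connectedComponentIn_subset (f₂ ⁻¹' {v}) _ hz)
  have H₂ : ∀ z ∈ connectedComponentIn (f₂ ⁻¹' {(⟨y, hyV⟩ : V.toScheme)}) (g₂ ⟨y, hyV⟩),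
      EGA43.IsUnivOpenAt f₂ z ∧ FBase.IsGeomReducedAt (f₂.fiberToSpecResidueField (f₂ z)) (f₂.asFiber z) := by
    intro z hz
    have h0 := H (j z) (hsub _ ⟨z, hz, rfl⟩)
    refine ⟨QHomeo.univOpenAt_comp (H1Near.isUnivOpenAt_of_universallyOpen O.ι z)
      (QHomeo.univOpenAt_of_isPullback h0.1 (isPullback_morphismRestrict f V).flip _ rfl), ?_⟩
    let p := pullback.snd f V.ι
    let e := (isPullback_morphismRestrict f V).flip.isoPullback
    let j' : O.toScheme ⟶ pullback f V.ι := O.ι ≫ e.hom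
    have hjp : j' ≫ p = f₂ := by
      show (O.ι ≫ e.hom) ≫ p = O.ι ≫ fV
      rw [Category.assoc, IsPullback.isoPullback_hom_snd]
    let Ψ : f₂.fiber (f₂ z) ⟶ p.fiber (f₂ z) :=
      pullback.map _ _ _ _ j' (𝟙 _) (𝟙 _) (by rw [Category.comp_id, hjp]) (by simp)
    haveI : IsOpenImmersion Ψ := Scheme.pullback_map_isOpenImmersion _ _ _ _ _ _ _ _ _
    refine isGeomReducedAt_openImmersion (k := V.toScheme.residueField (f₂ z)) (p.fiberToSpecResidueField (f₂ z))
      (f₂.fiberToSpecResidueField (f₂ z)) Ψ ((pullback.lift_snd _ _ _).trans (Category.comp_id _)) _ ?_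
    have hG : V.ι (f₂ z) = f (j z) := (hjf z).symm
    obtain ⟨w, hw, hwr⟩ : ∃ w : ↥(f.fiber (V.ι (f₂ z))), f.fiberι _ w = j z ∧
        FBase.IsGeomReducedAt (f.fiberToSpecResidueField (V.ι (f₂ z))) w := by
      rw [hG]
      exact ⟨_, f.fiberι_asFiber (j z), h0.2⟩
    refine isGeomReducedAt_fibre_baseChange f V.ι (f₂ z) w _ ?_ hwr
    rw [hw, ← Scheme.Hom.comp_apply Ψ, show Ψ ≫ p.fiberι (f₂ z) = f₂.fiberι (f₂ z) ≫ j' from pullback.lift_fst _ _ _,
      Scheme.Hom.comp_apply, f₂.fiberι_asFiber, ← Scheme.Hom.comp_apply, Category.assoc,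
      IsPullback.isoPullback_hom_fst]
  have hint := subset_interior_of_quasiCompact f₂ g₂ hg₂ ⟨y, hyV⟩ H₂
  -- the point lifts
  have hfx : f x = y := connectedComponentIn_subset (f ⁻¹' {y}) (g y) hx
  obtain ⟨z, rfl, hz⟩ : ∃ z, j z = x ∧ z ∈ connectedComponentIn (f₂ ⁻¹' {(⟨y, hyV⟩ : V.toScheme)}) (g₂ ⟨y, hyV⟩) := by
    have hemb : IsEmbedding j := j.isEmbedding
    have hS : (X₁ : Set X) ∩ f ⁻¹' {y} ⊆ Set.range j := fun w hw =>
      ⟨⟨⟨w, show f w ∈ V by rw [show f w = y from hw.2]; exact hyV⟩, hw.1⟩, rfl⟩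
    obtain ⟨z, hz⟩ := hS (connectedComponentIn_subset _ _ hxX₁)
    refine ⟨z, hz, ?_⟩
    have hpre : j ⁻¹' ((X₁ : Set X) ∩ f ⁻¹' {y}) = f₂ ⁻¹' {(⟨y, hyV⟩ : V.toScheme)} := by
      ext w
      refine ⟨fun h => Subtype.ext ((hjf w).symm.trans h.2), fun h => ⟨w.2, (hjf w).trans (congrArg Subtype.val h)⟩⟩
    rw [← hpre, H1Spread.mem_connectedComponentIn_preimage hemb hS _ _ (by
      rw [hjg]; exact ⟨hgX₁, hgV y hyV⟩), hz, hjg]
    exact hxX₁
  refine interior_mono ?_ ((j.isOpenEmbedding.isOpenMap.image_interior_subset _) ⟨z, hint hz, rfl⟩)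
  rintro _ ⟨w, hw, rfl⟩
  show j w ∈ connectedComponentIn (f ⁻¹' {f (j w)}) (g (f (j w)))
  rw [hjf]
  exact hsub _ ⟨w, hw, rfl⟩

end Groth.Agent.H1Sect
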